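import Mathlib
import Cfsg.Agent.TcChain36.Out.LM23.Syl

set_option autoImplicit false
set_option maxRecDepth 1000000
set_option linter.all false

namespace Cfsg.Agent.TcChain36.Out.LM23

open Cfsg.Agent.Lib.OutTree36

set_option Elab.async false

open Cfsg.Agent.TcData.LM23.I351 Cfsg.Agent.TcData.LM23 Cfsg.Agent.TcChain36.LM23

/-- The candidates of a coset. -/
def cd0 : CT :=
  (.nd (.nd (.nd (.nd (.nd (.lf (.inD [3, 2, 7, 3])) (.nd (.lf (.inD [3, 2, 1, 0, 4, 5, 6, 2, 1, 5, 4, 7])) (.lf (.wit [4, 7, 6] [211, 211])))) (.nd (.nd (.lf (.inD [3, 2, 1, 0, 4, 5, 6, 2, 7, 3, 2, 6])) (.lf (.wit [4, 7, 6] [211, 211]))) (.nd (.lf (.wit [4, 1] [211, 211])) (.lf (.wit [4, 7, 6] [211, 211]))))) (.nd (.nd (.nd (.lf (.inD [3, 2, 1, 0, 4, 5, 6, 2, 1, 0, 4, 7])) (.lf (.wit [4, 7, 6] [211, 211]))) (.nd (.lf (.wit [4, 1] [211, 211])) (.lf (.wit [4, 7, 6] [211, 211]))))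 (.nd (.nd (.lf (.wit [7, 6] [211, 211])) (.lf (.wit [6, 2, 3] [211, 211]))) (.nd (.lf (.wit [7, 6] [211, 211])) (.lf (.wit [4, 7, 6] [211, 211])))))) (.nd (.nd (.nd (.nd (.lf (.inD [3, 2, 6, 5, 7, 3, 2, 6])) (.lf (.wit [4, 7, 6] [211, 211]))) (.nd (.lf (.wit [7, 6] [211, 211])) (.lf (.wit [4, 7, 6] [211, 211])))) (.nd (.nd (.lf (.wit [7, 6] [211, 211])) (.lf (.wit [6, 2, 3] [211, 211]))) (.nd (.lf (.wit [7, 6] [211, 211])) (.lf (.wit [3, 7] [211, 211]))))) (.nd (.nd (.nd (.lf (.wit [4, 3] [211, 211])) (.lf (.wit [4, 7, 6] [211, 211]))) (.nd (.lf (.wit [4, 1] [211, 211])) (.lf (.wit [4, 7, 6] [211, 211])))) (.nd (.nd (.lf (.wit [4, 1] [211, 211])) (.lf (.wit [4, 7, 6] [211, 211]))) (.nd (.lf (.wit [4, 1] [211, 211])) (.lf (.wit [1, 7, 4] [211, 211]))))))) (.nd (.nd (.nd (.nd (.nd (.lf (.inD [3, 2, 1, 0, 4, 6, 2, 1, 0, 3, 2, 1, 6, 2, 3, 7])) (.lf (.wit [3,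 7] [211, 211]))) (.nd (.lf (.wit [7, 6] [211, 211])) (.lf (.wit [4, 7, 6] [211, 211])))) (.nd (.nd (.lf (.wit [4, 7, 6] [211, 211])) (.lf (.wit [6, 2, 3] [211, 211]))) (.nd (.lf (.wit [4, 1] [211, 211])) (.lf (.wit [4, 7, 6] [211, 211]))))) (.nd (.nd (.nd (.lf (.wit [4, 7, 6] [211, 211])) (.lf (.wit [4, 7, 6] [211, 211]))) (.nd (.lf (.wit [4, 1] [211, 211])) (.lf (.wit [4, 7, 6] [211, 211])))) (.nd (.nd (.lf (.wit [7, 6] [211, 211])) (.lf (.wit [6, 2, 3] [211, 211]))) (.nd (.lf (.wit [4, 3] [211, 211])) (.lf (.wit [4, 7, 6] [211, 211])))))) (.nd (.nd (.nd (.nd (.lf (.wit [4, 7, 6] [211, 211])) (.lf (.wit [4, 7, 6] [211, 211]))) (.nd (.lf (.wit [4, 1] [211, 211])) (.lf (.wit [4, 7, 6] [211, 211])))) (.nd (.nd (.lf (.wit [4, 7, 6] [211, 211])) (.lf (.wit [6, 2, 3] [211, 211]))) (.nd (.lf (.wit [4, 7, 6] [211, 211])) (.lf (.wit [4, 7, 6] [211, 211]))))) (.nd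 (.nd (.nd (.lf (.wit [4, 3] [211, 211])) (.lf (.wit [4, 7, 6] [211, 211]))) (.nd (.lf (.wit [4, 1] [211, 211])) (.lf (.wit [4, 7, 6] [219, 211])))) (.nd (.nd (.lf (.wit [4, 1] [211, 211])) (.lf (.wit [4, 7, 6] [211, 211]))) (.nd (.lf (.wit [4, 1] [211, 211])) (.lf (.inD [3, 2, 1, 0, 7, 3, 2, 1]))))))))

theorem k0 : chkCand DD ap iv bsL 7 351 [2, 3] cd0 0 = true := by decide +kernel

/-- The candidates of a coset. -/
def cd1 : CT :=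
  (.nd (.nd (.nd (.nd (.nd (.nd (.lf (.wit [1, 7, 4] [211, 211])) (.lf (.wit [4, 7, 6] [211, 211]))) (.nd (.lf (.wit [4, 7, 6] [211, 211])) (.lf (.wit [4, 7, 6] [211, 211])))) .nil) (.nd .nil (.nd (.nd (.lf (.wit [4, 7, 6] [211, 211])) (.lf (.wit [4, 7, 6] [211, 211]))) (.nd (.lf (.wit [4, 7, 6] [211, 211])) (.lf (.wit [4, 7, 6] [211, 211])))))) .nil) (.nd .nil (.nd (.nd (.nd (.nd (.lf (.wit [1, 7, 4] [219, 211])) (.lf (.wit [4, 7, 6] [211, 211]))) (.nd (.lf (.wit [4, 7, 6] [211, 211])) (.lf (.wit [1, 7, 4] [211, 211])))) .nil) (.nd .nil (.nd (.nd (.lf (.wit [4, 7, 6] [219, 211])) (.lf (.wit [3, 7] [211, 211]))) (.nd (.lf (.wit [4, 7, 6] [211, 211])) (.lf (.wit [4, 7, 6] [211, 211]))))))))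

theorem k1 : chkCand DD ap iv bsL 7 351 [2, 3] cd1 1 = true := by decide +kernel

/-- The candidates of a coset. -/
def cd2 : CT :=
  (.nd (.nd (.nd (.nd (.nd (.nd (.lf (.wit [4, 7, 6] [211, 211])) (.lf (.wit [4, 1] [211, 211]))) (.nd (.lf (.wit [4, 1] [211, 211])) (.lf (.wit [4, 1] [211, 211])))) .nil) .nil) (.nd (.nd .nil (.nd (.nd (.lf (.wit [4, 1] [211, 211])) (.lf (.wit [4, 1] [211, 211]))) (.nd (.lf (.wit [4, 1] [211, 219])) (.lf (.wit [4, 1] [211, 219]))))) .nil)) (.nd (.nd .nil (.nd (.nd (.nd (.lf (.wit [4, 7, 6] [211, 211])) (.lf (.wit [4, 1] [211, 211]))) (.nd (.lf (.wit [4, 1] [211, 211])) (.lf (.wit [4, 1] [211, 211])))) .nil)) (.nd .nil (.nd .nil (.nd (.nd (.lf (.wit [4, 1] [211, 211])) (.lf (.wit [4, 1] [211, 211]))) (.nd (.lf (.wit [4, 1] [211, 211])) (.lf (.wit [4, 1] [211, 211]))))))))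

theorem k2 : chkCand DD ap iv bsL 7 351 [2, 3] cd2 2 = true := by decide +kernel

/-- The candidates of a coset. -/
def cd3 : CT :=
  (.nd (.nd (.nd (.nd (.nd (.nd (.lf (.wit [1, 7, 4] [211, 211])) (.lf (.wit [1, 7, 4] [211, 211]))) (.nd (.lf (.wit [4, 7, 6] [211, 211])) (.lf (.wit [4, 7, 6] [211, 211])))) .nil) .nil) (.nd .nil (.nd (.nd (.nd (.lf (.wit [1, 7, 4] [219, 211])) (.lf (.wit [1, 7, 4] [211, 211]))) (.nd (.lf (.wit [1, 7, 4] [211, 211])) (.lf (.wit [4, 7, 6] [211, 211])))) .nil))) (.nd (.nd (.nd .nil (.nd (.nd (.lf (.wit [4, 7, 6] [211, 211])) (.lf (.wit [1, 7, 4] [211, 211]))) (.nd (.lf (.wit [1, 7, 4] [211, 211])) (.lf (.wit [4, 7, 6] [211, 211]))))) .nil) (.nd .nil (.nd .nil (.nd (.nd (.lf (.wit [4, 7, 6] [211, 211])) (.lf (.wit [4, 7, 6] [211, 211]))) (.nd (.lf (.wit [1, 7, 4] [211, 211])) (.lf (.wit [1, 7, 4] [211, 211]))))))))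

theorem k3 : chkCand DD ap iv bsL 7 351 [2, 3] cd3 3 = true := by decide +kernel

/-- The candidates of a coset. -/
def cd4 : CT :=
  (.nd (.nd (.nd (.nd (.nd (.lf (.wit [4, 7, 6] [211, 219])) (.lf (.wit [6, 2, 3] [211, 211]))) (.nd (.lf (.wit [4, 7, 6] [211, 211])) (.lf (.wit [6, 2, 3] [211, 211])))) (.nd (.nd (.lf (.wit [4, 7, 6] [211, 211])) (.lf (.wit [6, 2, 3] [211, 211]))) (.nd (.lf (.wit [4, 7, 6] [211, 219])) (.lf (.wit [6, 2, 3] [211, 211]))))) .nil) (.nd .nil (.nd (.nd (.nd (.lf (.wit [1, 7, 4] [211, 211])) (.lf (.wit [6, 2, 3] [211, 219]))) (.nd (.lf (.wit [4, 7, 6] [211, 211])) (.lf (.wit [6, 2, 3] [211, 211])))) (.nd (.nd (.lf (.wit [4, 7, 6] [211, 211])) (.lf (.wit [6, 2, 3] [211, 211]))) (.nd (.lf (.wit [4, 7, 6] [211, 211])) (.lf (.wit [6, 2, 3] [211, 211])))))))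

theorem k4 : chkCand DD ap iv bsL 7 351 [2, 3] cd4 4 = true := by decide +kernel

/-- The candidates of a coset. -/
def cd5 : CT :=
  (.nd (.nd (.nd (.nd (.nd (.lf (.wit [6, 2, 3] [211, 219])) (.lf (.wit [4, 7, 6] [211, 211]))) .nil) (.nd .nil (.nd (.lf (.wit [6, 2, 3] [211, 211])) (.lf (.wit [6, 2, 3] [211, 346]))))) (.nd (.nd (.nd (.lf (.wit [6, 2, 3] [211, 346])) (.lf (.wit [6, 2, 3] [211, 211]))) .nil) (.nd .nil (.nd (.lf (.wit [4, 7, 6] [211, 211])) (.lf (.wit [6, 2, 3] [211, 219])))))) (.nd (.nd (.nd (.nd (.lf (.wit [6, 2, 3] [211, 219])) (.lf (.wit [4, 7, 6] [211, 211]))) .nil) (.nd .nil (.nd (.lf (.wit [6, 2, 3] [211, 211])) (.lf (.wit [6, 2, 3] [211, 346]))))) (.nd (.nd (.nd (.lf (.wit [6, 2, 3] [211, 346])) (.lf (.wit [6, 2, 3] [211, 211]))) .nil) (.nd .nil (.nd (.lf (.wit [4, 7, 6] [211, 211])) (.lf (.wit [6, 2, 3] [211, 219])))))))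

theorem k5 : chkCand DD ap iv bsL 7 351 [2, 3] cd5 5 = true := by decide +kernel

end Cfsg.Agent.TcChain36.Out.LM23
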